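import Groth.Agent.H16Derived.ProperSupp.Tensor
import Groth.Agent.H16Derived.KFlat.PerfRegular
import Groth.Agent.H16Derived.KFlat.PerfNoeth
import Groth.Agent.S6498
import Groth.Agent.S0921

/-!
# Perfect tensor bounded coherent, with supports
-/

set_option autoImplicit false
set_option linter.style.haveILetI false
set_option linter.unusedSectionVars false
set_option synthInstance.maxHeartbeats 400000
set_option maxHeartbeats 1000000

universe u

open CategoryTheory CategoryTheory.Limits AlgebraicGeometry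
open Groth.Agent.H16Derived
open Groth.Agent.H16Derived.KFlat Groth.Agent.H16Derived.KFlat.Stalk

attribute [local instance] HasDerivedCategory.standard

namespace Groth.Agent.H17.FourierMukai

variable {W : Scheme.{u}}

theorem isZero_of_homology {K : DCoh.D W} (h : ∀ i, IsZero (DCoh.HD K i)) : IsZero K := by
  haveI : DerivedCategory.IsGE K 1 := (DerivedCategory.isGE_iff _ _).2 fun i _ => h i
  haveI : DerivedCategory.IsLE K 0 := (DerivedCategory.isLE_iff _ _).2 fun i _ => h i
  rw [IsZero.iff_id_eq_zero]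
  exact (DerivedCategory.TStructure.t).zero (𝟙 K) 0 1 (by omega)

theorem isZero_restrict_of_stalks {M : W.Modules} (A : W.Opens) (h : ∀ x ∈ A, x ∉ CohB1.support M) :
    IsZero (M.restrict A.ι) := by
  refine H16Derived.KFlat.Stalk.isZero_of_stalk fun y => ?_
  haveI : Subsingleton ((Scheme.Modules.toPresheaf W ⋙ TopCat.Presheaf.stalkFunctor AddCommGrpCat.{u} (A.ι y)).obj M) :=
    not_not.1 (h _ y.2)
  haveI := ((Scheme.Modules.restrictStalkNatIso A.ι y).app M).addCommGroupIsoToAddEquiv.toEquiv.subsingleton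
  exact @ModuleCat.isZero_of_subsingleton _ _ _ this

theorem notMem_support_of_restrict {M : W.Modules} (A : W.Opens) (h : IsZero (M.restrict A.ι)) (x : W)
    (hx : x ∈ A) : x ∉ CohB1.support M := fun hs => hs (by
  let y : (A : Scheme.{u}) := ⟨x, hx⟩
  have h0 : IsZero ((Scheme.Modules.toPresheaf (A : Scheme.{u}) ⋙ TopCat.Presheaf.stalkFunctor _ y).obj
      (M.restrict A.ι)) := by
    haveI : (Scheme.Modules.toPresheaf (A : Scheme.{u}) ⋙ TopCat.Presheaf.stalkFunctor _ y).PreservesZeroMorphisms :=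
      inferInstance
    exact Functor.map_isZero _ h
  exact AddCommGrpCat.subsingleton_of_isZero (h0.of_iso ((Scheme.Modules.restrictStalkNatIso A.ι y).app M).symm))

variable [IsNoetherian W]

/-- A perfect object tensor a bounded coherent one with supports proper over the base. -/
theorem ps_tensor {Y : Scheme.{u}} (f : W ⟶ Y) [LocallyOfFiniteType f] (K : CochainComplex W.Modules ℤ) [DCoh.HasLTensorCx K]
    (hK : ProperSupp.PS f (DCoh.toD W K)) (a b : ℤ) [(DCoh.toD W K).IsGE a] [(DCoh.toD W K).IsLE b]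
    {P : DCoh.D W} (hP : DCoh.IsPerfect P) :
    ProperSupp.PS f ((DCoh.LTensorCx K).obj P) ∧
      ∃ a' b' : ℤ, ((DCoh.LTensorCx K).obj P).IsGE a' ∧ ((DCoh.LTensorCx K).obj P).IsLE b' := by
  let Q : DCoh.D W := DCoh.toD W K
  let eR : ((Dual.T W).obj P).obj Q ≅ (DCoh.LTensorCx K).obj P := (Dual.ltensorCxIsoT K).app P
  have hro := Dual.isPerfect_ro hP
  haveI := Dual.isIso_w hP
  obtain ⟨-, a₁, b₁, hge₁, hle₁⟩ := isCohD_and_bounded_of_isPerfect hP
  obtain ⟨-, a₂, b₂, hge₂, hle₂⟩ := isCohD_and_bounded_of_isPerfect hro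
  haveI := hle₁
  haveI := hle₂
  let e : (Dual.R (Dual.ro P)).obj Q ≅ (DCoh.LTensorCx K).obj P :=
    (Dual.θIso hro Q).symm ≪≫ ((Dual.T W).obj Q).mapIso (asIso (Dual.w P)).symm ≪≫ Dual.σ Q P ≪≫ eR
  have hc : DCoh.IsCohD ((DCoh.LTensorCx K).obj P) :=
    Dual.isCohD_iso e (Dual.isCohD_R (isPseudoCoherentD_of_isPerfect hro) hK.1 a)
  haveI hge := Dual.isGE_R (k := Dual.ro P) b₂ Q a
  haveI hle := TorTest.isLE_T P Q b₁ b
  refine ⟨⟨hc, fun i => ?_⟩, a - b₂, b + b₁, DerivedCategory.TStructure.t.isGE_of_iso e _,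
    DerivedCategory.TStructure.t.isLE_of_iso eR _⟩
  let T : Set W := ⋃ j ∈ Finset.Icc a b, CohB1.support (DCoh.HD Q j)
  have hT : IsClosed T := (Finset.Icc a b).finite_toSet.isClosed_biUnion fun j _ => (hK.2 j).1
  let A : W.Opens := ⟨Tᶜ, hT.isOpen_compl⟩
  have hQA : IsZero ((Dual.rA A).obj Q) := isZero_of_homology fun j => by
    refine IsZero.of_iso ?_ (homologyRdIso A.ι Q j)
    refine isZero_restrict_of_stalks A fun x hx hs => hx ?_
    by_cases hj : j ∈ Finset.Icc a b
    · exact Set.mem_biUnion hj hs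
    · have hz : IsZero (DCoh.HD Q j) := by
        rcases not_and_or.1 (mt Finset.mem_Icc.2 hj) with h | h
        · exact DerivedCategory.isZero_of_isGE Q a j (not_le.1 h)
        · exact DerivedCategory.isZero_of_isLE Q b j (not_le.1 h)
      rw [Thomason.support_eq_empty_of_isZero hz] at hs
      exact hs.elim
  obtain ⟨Z, hZ⟩ := HasZeroObject.zero (C := DCoh.D W)
  have hiso : Dual.IsoOn A (0 : Q ⟶ Z) :=
    isIso_of_source_target_iso_zero _ hQA.isoZero ((Dual.rA A).map_isZero hZ).isoZero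
  have hTA : IsZero ((Dual.rA A).obj (((Dual.T W).obj P).obj Q)) :=
    haveI : IsIso ((Dual.rA A).map (((Dual.T W).obj P).map (0 : Q ⟶ Z))) := Dual.isoOn_TObj P hiso
    IsZero.of_iso ((Dual.rA A).map_isZero (((Dual.T W).obj P).map_isZero hZ))
      (asIso ((Dual.rA A).map (((Dual.T W).obj P).map (0 : Q ⟶ Z))))
  have hU : ClSub.IsProperOver f T := by
    rw [show T = ⋃ j : ↥(Finset.Icc a b), CohB1.support (DCoh.HD Q j.1) from Set.biUnion_eq_iUnion _ _]
    exact LeadProper.isProperOver_iUnion f _ fun j => hK.2 j.1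
  refine LeadProper.isProperOver_mono hU (LeadProper.isClosed_support _ (hc i).1 (hc i).2) fun x hx => ?_
  by_contra hxT
  refine notMem_support_of_restrict A ?_ x hxT hx
  exact (((DerivedCategory.homologyFunctor _ i).map_isZero (hTA.of_iso ((Dual.rA A).mapIso eR).symm))).of_iso
    (homologyRdIso A.ι _ i).symm

end Groth.Agent.H17.FourierMukai
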