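import Groth.Agent.H16Derived.ProperSupp.Tensor
import Groth.Agent.H16Derived.TorTest.PushTensorPC
import Groth.Agent.S6498

/-!
# Pullback followed by tensor with a module flat over the base
-/

set_option autoImplicit false
set_option linter.style.haveILetI false
set_option maxHeartbeats 1000000
set_option synthInstance.maxHeartbeats 400000

universe u

open CategoryTheory CategoryTheory.Limits AlgebraicGeometry MonoidalCategory TensorProduct
open Groth.Agent.H16Derived Groth.Agent.H16Derived.KFlat Groth.Agent.H16Derived.KFlat.Stalk Groth.Agent.H06Mod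

attribute [local instance] HasDerivedCategory.standard
attribute [local instance] Groth.Agent.H06Mod.stalkAlgebra

namespace Groth.Agent.H17.FourierMukai

variable {X Y : Scheme.{u}} (f : X ⟶ Y)

/-- Exactness at a stalk where the kernel is flat over the base. -/
theorem exact_stalk_pullback_tensor (G : X.Modules) (x : X) (hG : FlatMod.IsFlatOverAt f G x)
    (S : ShortComplex Y.Modules) (hS : S.Exact) :
    (((S.map (Scheme.Modules.pullback f)).map (DCoh.tensorRightMod G)).map (DerSch.stalkFunctor X x)).Exact := by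
  refine ShortComplex.exact_of_iso ((S.map (Scheme.Modules.pullback f)).mapNatIso (TorTest.tensorStalkIso x G)).symm ?_
  letI : Module (Y.presheaf.stalk (f.base x)) (G.presheaf.stalk x) := FlatMod.moduleStalkOver f G x
  haveI : IsScalarTower (Y.presheaf.stalk (f.base x)) (X.presheaf.stalk x) (G.presheaf.stalk x) :=
    .of_algebraMap_smul fun _ _ => rfl
  haveI : Module.Flat (Y.presheaf.stalk (f.base x)) (G.presheaf.stalk x) := hG
  have h0 := (ShortComplex.ShortExact.moduleCat_exact_iff_function_exact _).1 ((exact_iff S).1 hS (f.base x))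
  have h1 := Module.Flat.lTensor_exact (G.presheaf.stalk x) h0
  refine (ShortComplex.ShortExact.moduleCat_exact_iff_function_exact _).2 ?_
  let e : ∀ M : Y.Modules, (G.presheaf.stalk x ⊗[Y.presheaf.stalk (f.base x)] M.presheaf.stalk (f.base x)) ≃+
      (((Scheme.Modules.pullback f).obj M).presheaf.stalk x ⊗[X.presheaf.stalk x] G.presheaf.stalk x) := fun M =>
    ((AlgebraTensorModule.cancelBaseChange (Y.presheaf.stalk (f.base x)) (X.presheaf.stalk x) (X.presheaf.stalk x)
        (G.presheaf.stalk x) (M.presheaf.stalk (f.base x))).symm ≪≫ₗ TensorProduct.comm _ _ _ ≪≫ₗ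
      LinearEquiv.rTensor (G.presheaf.stalk x) (pullStalkEquiv f M x)).toAddEquiv
  have hn : ∀ {M N : Y.Modules} (φ : M ⟶ N) (t : G.presheaf.stalk x ⊗[Y.presheaf.stalk (f.base x)] M.presheaf.stalk (f.base x)),
      e N ((stalkLin φ (f.base x)).lTensor (G.presheaf.stalk x) t) =
        (stalkLin ((Scheme.Modules.pullback f).map φ) x).rTensor (G.presheaf.stalk x) (e M t) := by
    intro M N φ t
    induction t using TensorProduct.induction_on with
    | zero => simp only [map_zero]
    | add a b ha hb => simp only [map_add, ha, hb]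
    | tmul g m =>
      show (pullStalkLin f N x ((1 : X.presheaf.stalk x) ⊗ₜ stalkLin φ (f.base x) m)) ⊗ₜ[X.presheaf.stalk x] g = _
      exact congrArg (· ⊗ₜ[X.presheaf.stalk x] g) (pullStalkLin_naturality f x φ ((1 : X.presheaf.stalk x) ⊗ₜ m))
  let a := (stalkLin S.f (f.base x)).lTensor (G.presheaf.stalk x)
  let b := (stalkLin S.g (f.base x)).lTensor (G.presheaf.stalk x)
  let a' := (stalkLin ((Scheme.Modules.pullback f).map S.f) x).rTensor (G.presheaf.stalk x)
  let b' := (stalkLin ((Scheme.Modules.pullback f).map S.g) x).rTensor (G.presheaf.stalk x)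
  change Function.Exact a' b'
  change Function.Exact a b at h1
  refine fun y => ?_
  obtain ⟨y, rfl⟩ := (e S.X₂).surjective y
  constructor
  · intro hy
    obtain ⟨z, rfl⟩ := (h1 y).1 ((e S.X₃).injective (by rw [map_zero]; exact (hn S.g y).trans hy))
    exact ⟨e S.X₁ z, (hn S.f z).symm⟩
  · rintro ⟨z, hz⟩
    obtain ⟨z, rfl⟩ := (e S.X₁).surjective z
    have hyz : a z = y := (e S.X₂).injective ((hn S.f z).trans hz)
    refine (hn S.g y).symm.trans ?_
    show e S.X₃ (b y) = 0
    rw [(h1 y).2 ⟨z, hyz⟩, map_zero]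

/-- The derived pullback tensor a flat kernel of a bounded object is bounded. -/
theorem bounds_lpull_ltensorMod [DCoh.HasLpull f] (G : X.Modules) [DCoh.HasLTensorMod G]
    (hflat : FlatMod.IsFlatOver f G) (M : DCoh.D Y) (m n : ℤ) [M.IsGE m] [M.IsLE n] :
    ((DCoh.LTensorMod G).obj ((DCoh.Lpull f).obj M)).IsGE m ∧
      ((DCoh.LTensorMod G).obj ((DCoh.Lpull f).obj M)).IsLE n := by
  obtain ⟨P, hP, hP', ⟨eP⟩⟩ := Dual.exists_rep M
  let PP := ((Scheme.Modules.pullback f).mapHomologicalComplex (ComplexShape.up ℤ)).obj P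
  let C := ((DCoh.tensorRightMod G).mapHomologicalComplex (ComplexShape.up ℤ)).obj PP
  have hv : ∀ i : ℤ, (i < m ∨ n < i) → IsZero (DCoh.HD ((DCoh.LTensorMod G).obj ((DCoh.Lpull f).obj M)) i) := by
    intro i hi
    have hPi : (P.sc i).Exact := (ShortComplex.exact_iff_isZero_homology _).2 <| by
      refine IsZero.of_iso ?_ (((DerivedCategory.homologyFunctorFactors _ i).app P).symm ≪≫
        (DerivedCategory.homologyFunctor _ i).mapIso eP)
      rcases hi with h | h
      · exact DerivedCategory.isZero_of_isGE M m i h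
      · exact DerivedCategory.isZero_of_isLE M n i h
    have hC : (C.sc i).Exact := (exact_iff _).2 fun x =>
      exact_stalk_pullback_tensor f G x (hflat x) (P.sc i) hPi
    refine IsZero.of_iso ((ShortComplex.exact_iff_isZero_homology _).1 hC) ?_
    exact (DerivedCategory.homologyFunctor _ i).mapIso ((DCoh.LTensorMod G).mapIso
      ((DCoh.Lpull f).mapIso eP.symm ≪≫ lpullObjIso f P hP)) ≪≫
      hdLTensorModIso G PP (fun L hL => KFlat.acyclic_of_iso
        (KFlat.totFlipIso (F := DCoh.tensorBi (X := X)) PP L ≪≫ Dual.braidC PP L).symm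
        (isKFlat_pullback f hP L hL)) i
  exact ⟨(DerivedCategory.isGE_iff _ _).2 fun i hi => hv i (Or.inl hi),
    (DerivedCategory.isLE_iff _ _).2 fun i hi => hv i (Or.inr hi)⟩

/-- Bounded above coherent tensor a coherent module, with supports. -/
theorem ps_ltensorMod [IsLocallyNoetherian X] {S : Scheme.{u}} (g : X ⟶ S) [LocallyOfFiniteType g] (E : DCoh.D X) (hE : DCoh.IsCohD E)
    (n : ℤ) [E.IsLE n] (G : X.Modules) (hG : Coh.IsCoh G) (hsupp : ClSub.IsProperOver g (CohB1.support G))
    [DCoh.HasLTensorMod G] : ProperSupp.PS g ((DCoh.LTensorMod G).obj E) := by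
  obtain ⟨e⟩ := ProperSupp.nonempty_ltensorMod_iso E G
  let G₀ := (CochainComplex.singleFunctor X.Modules 0).obj G
  haveI := hasLTensorCx G₀
  let eG : DCoh.toD X G₀ ≅ DCoh.inD X G := ((DerivedCategory.singleFunctorIsoCompQ X.Modules 0).app G).symm
  have hz : ∀ i : ℤ, i ≠ 0 → IsZero (DCoh.HD (DCoh.toD X G₀) i) := fun i hi => by
    refine IsZero.of_iso ?_ ((DerivedCategory.homologyFunctor _ i).mapIso eG)
    rcases lt_or_gt_of_ne hi with h | h
    · exact DerivedCategory.isZero_of_isGE _ 0 i h
    · exact DerivedCategory.isZero_of_isLE _ 0 i h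
  have hG₀ : DCoh.IsCohD (DCoh.toD X G₀) := fun i => by
    rcases eq_or_ne i 0 with rfl | hi
    · exact H10Coh.isCoh_of_iso ((DerivedCategory.homologyFunctor _ 0).mapIso eG ≪≫ hdSingle G 0).symm hG
    · exact Dual.isCoh_isZero (hz i hi)
  have hc : DCoh.IsCohD ((DCoh.LTensorMod G).obj E) :=
    Dual.isCohD_iso (((Dual.ltensorCxIsoT G₀).app E).symm ≪≫ ((Dual.T X).obj E).mapIso eG ≪≫ e.symm) (fun i => (Groth.Agent.S6498.result X G₀ E hE
      ⟨n, fun i hi => DerivedCategory.isZero_of_isLE E n i hi⟩ hG₀ ⟨0, fun i hi => hz i (by omega)⟩).1 i)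
  obtain ⟨P, -, hP, ⟨eP⟩⟩ := Dual.exists_rep E
  let e' := (ltensorModObjIso G P hP).symm ≪≫ (DCoh.LTensorMod G).mapIso eP
  refine ⟨hc, fun i => LeadProper.isProperOver_mono hsupp (LeadProper.isClosed_support _ (hc i).1 (hc i).2) ?_⟩
  intro x hx
  refine ProperSupp.support_hd_subset P G i ?_
  exact (MVPush.support_iso ((DerivedCategory.homologyFunctor _ i).mapIso e')).symm ▸ hx

/-- Pseudo-coherent objects over a locally Noetherian scheme have coherent cohomology. -/
theorem isCohD_of_pc [IsLocallyNoetherian X] {E : DCoh.D X} (hpc : ∀ m : ℤ, DCoh.IsPseudoCoherentD m E) :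
    DCoh.IsCohD E := fun i => by
  refine ⟨BaseChange.isQCohD_of_pc hpc i, isFT_of_local fun x => ?_⟩
  obtain ⟨U, hU, hxU, -⟩ := exists_isAffineOpen_mem_and_subset (show x ∈ (⊤ : X.Opens) from trivial)
  haveI : CompactSpace (U : Scheme.{u}) := isCompact_iff_compactSpace.mp hU.isCompact
  have hpcU := fun m => isPseudoCoherentD_rd U.ι (hpc m)
  have hc := ((isPseudoCoherentD_iff_isCoh (BaseChange.isQCohD_of_pc hpcU) i).1 (hpcU i)).1 i le_rfl
  exact ⟨_, U.ι, inferInstance, ⟨⟨x, hxU⟩, rfl⟩, (H10Coh.isCoh_of_iso (homologyRdIso U.ι _ i) hc).2⟩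

end Groth.Agent.H17.FourierMukai
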