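import Groth.Agent.H16Derived.KFlat.BoundedAbove
import Mathlib.Algebra.Homology.DerivedCategory.Basic
import Mathlib.Algebra.Homology.DerivedCategory.ShortExact

/-!
# Induction over the terms of a bounded complex
-/

set_option autoImplicit false
set_option linter.style.haveILetI false

universe v u

open CategoryTheory CategoryTheory.Limits CategoryTheory.Pretriangulated

namespace Groth.Agent.H17.FourierMukai

open Groth.Agent.H16Derived

variable {A : Type u} [Category.{v} A] [Abelian A] [HasDerivedCategory A] [HasCountableCoproducts A]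
  (P : DerivedCategory A → Prop) (hiso : ∀ {X Y}, (X ≅ Y) → P X → P Y)
  (hzero : ∀ {X}, IsZero X → P X)
  (hext : ∀ (T : Triangle (DerivedCategory A)), T ∈ distTriang _ → P T.obj₁ → P T.obj₃ → P T.obj₂)
  (hshift : ∀ (X : DerivedCategory A) (n : ℤ), P X → P (X⟦n⟧))

include hiso hzero hext hshift in
/-- A bounded complex lies in a subcategory closed under triangles and shifts as soon as its terms do. -/
theorem mem_of_terms : ∀ (N : ℕ) (c : ℤ) (K : CochainComplex A ℤ),
    (∀ i, (i < c ∨ c + N ≤ i) → IsZero (K.X i)) →
    (∀ i, P ((DerivedCategory.singleFunctor A 0).obj (K.X i))) → P (DerivedCategory.Q.obj K)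
  | 0, c, K, hb, _ => hzero (DerivedCategory.Q.map_isZero (by
      rw [IsZero.iff_id_eq_zero]
      exact HomologicalComplex.hom_ext _ _ fun i => (hb i (by omega)).eq_of_src _ _))
  | N + 1, c, K, hb, h => by
    let p : ℤ := c + N
    have hT := DerivedCategory.triangleOfSES_distinguished (KFlat.Brutal.shortExact K p)
    refine hext _ hT ?_ ?_
    · have hz : ∀ i, i ≠ p → IsZero ((KFlat.Brutal.geq K p).X i) := fun i hi => by
        by_cases hpi : p ≤ i
        · have := KFlat.Brutal.isIso_ι_f K p hpi
          exact (hb i (Or.inr (by omega))).of_iso (asIso ((KFlat.Brutal.ι K p).f i))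
        · exact KFlat.Brutal.isZero_geq K _ (by omega)
      haveI : (KFlat.Brutal.geq K p).IsStrictlyGE p :=
        (CochainComplex.isStrictlyGE_iff _ p).2 fun q hq => hz q (by omega)
      haveI : (KFlat.Brutal.geq K p).IsStrictlyLE p :=
        (CochainComplex.isStrictlyLE_iff _ p).2 fun q hq => hz q (by omega)
      obtain ⟨Y, ⟨e⟩⟩ := CochainComplex.exists_iso_single (KFlat.Brutal.geq K p) p
      have := KFlat.Brutal.isIso_ι_f K p (le_refl p)
      let eY : K.X p ≅ Y := (asIso ((KFlat.Brutal.ι K p).f p)).symm ≪≫
        (HomologicalComplex.eval _ _ p).mapIso e ≪≫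
        HomologicalComplex.singleObjXSelf (ComplexShape.up ℤ) p Y
      refine hiso (DerivedCategory.Q.mapIso e).symm
        (hiso ?_ (hshift _ (-p) (hiso ((DerivedCategory.singleFunctor A 0).mapIso eY) (h p))))
      exact (shiftFunctor (DerivedCategory A) (-p)).mapIso
          ((DerivedCategory.singleFunctorIsoCompQ A 0).app Y) ≪≫
        ((DerivedCategory.Q.commShiftIso (-p)).app _).symm ≪≫
        DerivedCategory.Q.mapIso (((CochainComplex.singleFunctors A).shiftIso (-p) p 0 (by omega)).app Y)
    · refine mem_of_terms N c _ (fun i hi => ?_) fun i => ?_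
      · by_cases hp : p ≤ i
        · exact KFlat.Brutal.isZero_cokernel K _ hp
        · exact KFlat.Brutal.isZero_cokernel' K _ (hb i (by omega))
      · by_cases hi : i < p
        · have := KFlat.Brutal.isIso_cokernel_π K p hi
          exact hiso ((DerivedCategory.singleFunctor A 0).mapIso
            (asIso ((cokernel.π (KFlat.Brutal.ι K p)).f i))) (h i)
        · exact hzero ((DerivedCategory.singleFunctor A 0).map_isZero
            (KFlat.Brutal.isZero_cokernel K _ (not_lt.1 hi)))

end Groth.Agent.H17.FourierMukai
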