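import Groth.Agent.H17.FourierMukai.BoundedCx
import Groth.Agent.H16Derived.RelTensor.Perfect
import Groth.Agent.H16Derived.Dual.PseudoQCoh
import Groth.Agent.H16Derived.ProperSupp.Tensor
import Groth.Agent.H16Derived.Thomason.Supp
import Groth.Prelude.Def_DCoh4

/-!
# Perfect objects tensor bounded complexes of relatively flat modules
-/

set_option autoImplicit false
set_option linter.style.haveILetI false
set_option linter.unusedSectionVars false
set_option backward.isDefEq.respectTransparency false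
set_option synthInstance.maxHeartbeats 400000
set_option maxHeartbeats 1000000

universe u

open CategoryTheory CategoryTheory.Limits AlgebraicGeometry CategoryTheory.Pretriangulated
open Groth.Agent.H16Derived
open Groth.Agent.H16Derived.KFlat Groth.Agent.H16Derived.KFlat.Stalk
open Groth.Agent.H16Derived.Thomason
open scoped ZeroObject

attribute [local instance] HasDerivedCategory.standard

noncomputable section

namespace Groth.Agent.H17.FourierMukai

variable {W S : Scheme.{u}}

/-- Direct images of perfect objects tensored with bounded complexes of flat modules with proper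
supports are perfect. -/
theorem isPerfect_rpush_ltensorCx (f : W ⟶ S) [LocallyOfFinitePresentation f] [QuasiCompact f]
    [QuasiSeparated f] [DCoh.HasRpush f] (K : CochainComplex W.Modules ℤ) [DCoh.HasLTensorCx K]
    (a b : ℤ) (hK : DCoh.VanishesOutside K a b) (hfp : ∀ i, CohB1.IsFP (K.X i))
    (hflat : ∀ i, FlatMod.IsFlatOver f (K.X i))
    (hsupp : ∀ i, ClSub.IsProperOver f (CohB1.support (K.X i)))
    {E : DCoh.D W} (hE : DCoh.IsPerfect E) :
    DCoh.IsPerfect ((DCoh.Rpush f).obj ((DCoh.LTensorCx K).obj E)) := by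
  letI := rpushCommShift f
  haveI := rpush_isTriangulated f
  let R := DCoh.Rpush f
  let F := (Dual.T W).obj E
  let P : DCoh.D W → Prop := fun Q => DCoh.IsPerfect (R.obj (F.obj Q))
  have hiso : ∀ {X Y : DCoh.D W}, (X ≅ Y) → P X → P Y := fun e h =>
    isPerfect_of_iso (R.mapIso (F.mapIso e)) h
  have hF0 : ∀ {X : DCoh.D W}, IsZero X → IsZero (F.obj X) := fun {X} hX => by
    haveI : F.PreservesZeroMorphisms := ⟨fun A B => F.map_zero A B⟩
    exact Functor.map_isZero F hX
  have hzero : ∀ {X : DCoh.D W}, IsZero X → P X := fun hX =>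
    isPerfect_zero (R.map_isZero (hF0 hX))
  have hext : ∀ T : Triangle (DCoh.D W), T ∈ distTriang _ → P T.obj₁ → P T.obj₃ → P T.obj₂ := by
    intro T hT h1 h3
    obtain ⟨T', hT', ⟨e1⟩, ⟨e2⟩, ⟨e3⟩⟩ := Dual.exists_triangle_TObj E hT
    exact isPerfect_of_iso (R.mapIso e2) (isPerfect_obj₂ (R.map_distinguished _ hT')
      (isPerfect_of_iso (R.mapIso e1).symm h1) (isPerfect_of_iso (R.mapIso e3).symm h3))
  have hone : ∀ X : DCoh.D W, (P X → P (X⟦(1 : ℤ)⟧)) ∧ (P (X⟦(1 : ℤ)⟧) → P X) := by
    intro X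
    have hT : (Triangle.mk (0 : X ⟶ 0) (0 : (0 : DCoh.D W) ⟶ X⟦(1 : ℤ)⟧) (𝟙 (X⟦(1 : ℤ)⟧))) ∈ distTriang _ :=
      contractible_distinguished₂ X
    obtain ⟨T', hT', ⟨e1⟩, ⟨e2⟩, ⟨e3⟩⟩ := Dual.exists_triangle_TObj E hT
    have h2 : DCoh.IsPerfect (R.obj T'.obj₂) :=
      isPerfect_of_iso (R.mapIso e2).symm (hzero (isZero_zero _))
    exact ⟨fun h => isPerfect_of_iso (R.mapIso e3)
        (isPerfect_obj₃ (R.map_distinguished _ hT') (isPerfect_of_iso (R.mapIso e1).symm h) h2),
      fun h => isPerfect_of_iso (R.mapIso e1)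
        (isPerfect_obj₁ (R.map_distinguished _ hT') h2 (isPerfect_of_iso (R.mapIso e3).symm h))⟩
  have hshift : ∀ (X : DCoh.D W) (n : ℤ), P X → P (X⟦n⟧) := by
    intro X n h
    induction n using Int.induction_on with
    | zero => exact hiso ((shiftFunctorZero (DCoh.D W) ℤ).app X).symm h
    | succ n ih => exact hiso ((shiftFunctorAdd' (DCoh.D W) (n : ℤ) 1 _ rfl).app X).symm ((hone _).1 ih)
    | pred n ih =>
      exact (hone _).2 (hiso ((shiftFunctorAdd' (DCoh.D W) (-(n : ℤ) - 1) 1 (-(n : ℤ)) (by omega)).app X) ih)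
  have h := mem_of_terms P hiso hzero hext hshift (b + 1 - a).toNat a K
    (fun i hi => hK i (by omega)) fun i => by
      haveI := hasLTensorMod (K.X i)
      obtain ⟨e⟩ := ProperSupp.nonempty_ltensorMod_iso E (K.X i)
      exact isPerfect_of_iso (R.mapIso e)
        (RelTensor.isPerfect_rpush_ltensorMod f (hfp i) (hflat i) (hsupp i) hE)
  exact isPerfect_of_iso (R.mapIso ((Dual.ltensorCxIsoT K).app E)) h

end Groth.Agent.H17.FourierMukai
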